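import Groth.Prelude.Def_AlgSpOX
import Groth.Prelude.Def_AlgSp4
import Groth.Agent.AlgSpLib.UnivClosed
import Groth.Agent.AlgSpLib.Qc
import Groth.Agent.AlgSpLib.PureMono
import Groth.Agent.AlgSpLib.LocP
import Mathlib

/-!
# Global sections of a universally closed space over an affine scheme are integral
-/

set_option autoImplicit false
set_option backward.isDefEq.respectTransparency false
set_option backward.isDefEq.respectTransparency.types false

universe u

open CategoryTheory CategoryTheory.Limits AlgebraicGeometry Opposite Polynomial Topology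

noncomputable section

namespace Groth.Agent.AlgSpIntSectLib

open AlgSp AlgSpLib

attribute [local instance] Polynomial.algebra

/-- If no prime of `B[X]` containing `s X - 1` contracts to a prime containing `X`, and this holds for a closed
set containing all the contractions, then `s` is integral. -/
theorem exists_monic_eval₂_eq_zero {A B : Type u} [CommRing A] [CommRing B] (φ : A →+* B) (s : B)
    (hcl : IsClosed (PrimeSpectrum.comap (mapRingHom φ) ''
      PrimeSpectrum.zeroLocus {C s * X - 1})) :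
    ∃ p : A[X], p.Monic ∧ p.eval₂ φ s = 0 := by
  let L := Localization.Away s
  let ι : B →+* L := algebraMap B L
  obtain ⟨I, hI⟩ := (PrimeSpectrum.isClosed_iff_zeroLocus_ideal _).1 hcl
  -- the closed image avoids `X = 0`
  have hX : I ⊔ Ideal.span {(X : A[X])} = ⊤ := by
    by_contra hne
    obtain ⟨m, hm, hle⟩ := Ideal.exists_le_maximal _ hne
    have hm' : (⟨m, hm.isPrime⟩ : PrimeSpectrum A[X]) ∈ PrimeSpectrum.zeroLocus (I : Set A[X]) :=
      le_sup_left.trans hle
    rw [← hI] at hm'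
    obtain ⟨P, hP, hPm⟩ := hm'
    have hXm : (X : A[X]) ∈ m := le_sup_right.trans hle (Ideal.subset_span rfl)
    have hXP : (X : B[X]) ∈ P.asIdeal := by
      have h2 : (X : A[X]) ∈ (PrimeSpectrum.comap (mapRingHom φ) P).asIdeal := by rw [hPm]; exact hXm
      change mapRingHom φ X ∈ P.asIdeal at h2
      simpa using h2
    refine P.isPrime.ne_top ((Ideal.eq_top_iff_one _).2 ?_)
    have h1 : C s * X - 1 ∈ P.asIdeal := hP rfl
    simpa using P.asIdeal.sub_mem (P.asIdeal.mul_mem_left (C s) hXP) h1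
  obtain ⟨G, hG, c, hc, hGc⟩ := Submodule.mem_sup.1 ((Ideal.eq_top_iff_one _).1 hX)
  obtain ⟨c, rfl⟩ := Ideal.mem_span_singleton'.1 hc
  have hG0 : G.coeff 0 = 1 := by
    have := congrArg (fun q : A[X] => q.coeff 0) hGc
    simpa using this
  have hu : IsUnit (ι s) := IsLocalization.Away.algebraMap_isUnit s
  let y : L := ↑(hu.unit⁻¹)
  have hsy : ι s * y = 1 := hu.mul_val_inv
  letI : Invertible y := ⟨ι s, hsy, (mul_comm _ _).trans hsy⟩
  -- `G (1 / s)` is nilpotent
  have hnil : IsNilpotent (eval₂ (ι.comp φ) y G) := by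
    refine nilpotent_iff_mem_prime.2 fun q hq => ?_
    let ψ : B[X] →+* L := eval₂RingHom ι y
    let P : PrimeSpectrum B[X] := ⟨q.comap ψ, hq.comap ψ⟩
    have hP : P ∈ PrimeSpectrum.zeroLocus {C s * X - 1} := by
      intro e he
      rw [Set.mem_singleton_iff.1 he]
      change ψ (C s * X - 1) ∈ q
      simp [ψ, hsy]
    have h2 : PrimeSpectrum.comap (mapRingHom φ) P ∈ PrimeSpectrum.zeroLocus (I : Set A[X]) :=
      hI ▸ Set.mem_image_of_mem _ hP
    have h3 : ψ (mapRingHom φ G) ∈ q := h2 hG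
    simpa [ψ, eval₂_map] using h3
  -- reverse it
  have hrev : IsNilpotent (eval₂ (ι.comp φ) (ι s) G.reverse) := by
    have hinv : ⅟y = ι s := rfl
    have key := eval₂_reverse_mul_pow (ι.comp φ) y G
    rw [hinv] at key
    obtain ⟨n, hn⟩ := hnil
    refine ⟨n, ?_⟩
    rw [← key, mul_pow] at hn
    have hy : IsUnit ((y ^ G.natDegree) ^ n) := ((isUnit_of_invertible y).pow _).pow _
    exact (hy.mul_left_eq_zero).1 hn
  have hmon : G.reverse.Monic := by
    have hnd : G.natTrailingDegree = 0 := by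
      apply natTrailingDegree_eq_zero.2
      by_cases h : (1 : A) = 0
      · left; haveI := subsingleton_of_zero_eq_one h.symm; exact Subsingleton.elim _ _
      · right; rw [hG0]; exact h
    rw [Monic, reverse_leadingCoeff, trailingCoeff, hnd, hG0]
  obtain ⟨N, hN⟩ := hrev
  have hι : ι ((eval₂ φ s G.reverse) ^ N) = 0 := by
    rw [map_pow, hom_eval₂]; exact hN
  obtain ⟨⟨_, M, rfl⟩, hM⟩ := (IsLocalization.map_eq_zero_iff (Submonoid.powers s) L _).1 hι
  refine ⟨(X * G.reverse) ^ (M + N), (monic_X.mul hmon).pow _, ?_⟩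
  rw [eval₂_pow, eval₂_mul, eval₂_X, mul_pow, pow_add s, pow_add (eval₂ φ s _)]
  calc s ^ M * s ^ N * (eval₂ φ s G.reverse ^ M * eval₂ φ s G.reverse ^ N)
      = s ^ N * eval₂ φ s G.reverse ^ M * (s ^ M * eval₂ φ s G.reverse ^ N) := by ring
    _ = 0 := by rw [show s ^ M * eval₂ φ s G.reverse ^ N = 0 from hM, mul_zero]

variable {S : Scheme.{u}}

/-- A section of the structure sheaf at a scheme etale over the space. -/
abbrev at' {X : Sp S} (s : ↥(gsectEt (OEt X) : CommRingCat.{u + 1})) (E : EtOver X) :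
    Γ(E.obj.left.left, ⊤) :=
  ((limit.π (OEt X).obj (op E)) s).down

theorem at'_compat {X : Sp S} (s : ↥(gsectEt (OEt X) : CommRingCat.{u + 1})) {E E' : EtOver X} (g : E ⟶ E') :
    g.hom.left.left.appTop.hom (at' s E') = at' s E := by
  have h := congrArg (fun m => (ConcreteCategory.hom m) s) (limit.w (OEt X).obj g.op)
  exact congrArg ULift.down h

theorem exists_monic {V : Over S} [IsAffine V.left] (X : AlgSp.Space S)
    (f : X.obj ⟶ (yon S).obj V) (hqc : IsQuasiCompactMor f) (huc : IsUnivClosedMor f)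
    (s : ↥(gsectEt (OEt X.obj) : CommRingCat.{u + 1})) :
    ∃ p : Polynomial Γ(V.left, ⊤), p.Monic ∧ ∀ E : EtOver X.obj,
      Polynomial.eval₂ ((yon S).preimage (E.obj.hom ≫ f)).left.appTop.hom (at' s E) p = 0 := by
  have hX : IsAlgSpace X.obj := X.property
  have hXqc : IsQuasiCompactSp X.obj :=
    hqc (IsAlgSpace.yon_obj V) (isQuasiCompactSp_yon V) (𝟙 _) (𝟙 _) f
      (IsPullback.of_horiz_isIso ⟨by rw [Category.id_comp, Category.comp_id]⟩)
  obtain ⟨U₀, a₀, hU₀, ha₀, has₀⟩ := exists_affine_chart hXqc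
  haveI : IsAffine U₀.left := hU₀
  let B := Γ(U₀.left, ⊤)
  let U : Over S := Over.mk (U₀.left.isoSpec.inv ≫ U₀.hom)
  let iU : U ≅ U₀ := Over.isoMk U₀.left.isoSpec.symm rfl
  let a : (yon S).obj U ⟶ X.obj := (yon S).map iU.hom ≫ a₀
  have ha : RepWith @Etale a := repWith_comp ((repWith_yon_map_iff
    (P := (@Etale : MorphismProperty Scheme.{u})) iU.hom).2
      (inferInstanceAs (Etale U₀.left.isoSpec.inv))) ha₀
  have has : RepWith @Surjective a := repWith_comp ((repWith_yon_map_iff
    (P := (@Surjective : MorphismProperty Scheme.{u})) iU.hom).2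
      (inferInstanceAs (Surjective U₀.left.isoSpec.inv))) has₀
  let E₀ : EtOver X.obj := EtOver.mk a ha
  let h : U ⟶ V := (yon S).preimage (a ≫ f)
  have hh : (yon S).map h = a ≫ f := Functor.map_preimage _ _
  -- the coordinate rings
  let φ : Γ(V.left, ⊤) ⟶ B := Spec.preimage (h.left ≫ V.left.isoSpec.hom)
  have hφ : h.left = Spec.map φ ≫ V.left.isoSpec.inv := by
    rw [Spec.map_preimage, Category.assoc, Iso.hom_inv_id, Category.comp_id]
  let A := Γ(V.left, ⊤)
  let s₀ : B := (Scheme.ΓSpecIso B).hom (at' s E₀)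
  -- the line over `V` and over `U`
  let cA : A ⟶ CommRingCat.of A[X] := CommRingCat.ofHom Polynomial.C
  let cB : B ⟶ CommRingCat.of B[X] := CommRingCat.ofHom Polynomial.C
  let mA : CommRingCat.of A[X] ⟶ CommRingCat.of B[X] := CommRingCat.ofHom (mapRingHom φ.hom)
  let T : Over S := Over.mk (Spec.map cA ≫ V.left.isoSpec.inv ≫ V.hom)
  let UT : Over S := Over.mk (Spec.map cB ≫ U.hom)
  let t : T ⟶ V := Over.homMk (Spec.map cA ≫ V.left.isoSpec.inv) (by simp [T])
  let r : UT ⟶ U := Over.homMk (Spec.map cB) rfl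
  have hmc : Spec.map mA ≫ Spec.map cA = Spec.map cB ≫ Spec.map φ := by
    rw [← Spec.map_comp, ← Spec.map_comp]
    congr 1
    ext x
    simp [mA, cA, cB]
  let g : UT ⟶ T := Over.homMk (Spec.map mA) (by
    change Spec.map mA ≫ Spec.map cA ≫ V.left.isoSpec.inv ≫ V.hom = Spec.map cB ≫ U.hom
    rw [reassoc_of% hmc, ← Over.w h, hφ, Category.assoc])
  have sq₀ : IsPullback r.left g.left h.left t.left := by
    letI : Algebra A B := φ.hom.toAlgebra
    have hsq : IsPullback (Spec.map cB) (Spec.map mA) (Spec.map φ) (Spec.map cA) := by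
      exact isPullback_SpecMap_of_isPushout _ _ _ _
        (CommRingCat.isPushout_of_isPushout A B A[X] B[X])
    rw [hφ]
    exact hsq.of_iso (Iso.refl _) (Iso.refl _) (Iso.refl _) V.left.isoSpec.symm (by simp [r]) (by simp [g])
      (by simp) (by simp [t])
  have sqU : IsPullback ((yon S).map r) ((yon S).map g) ((yon S).map h) ((yon S).map t) :=
    (IsPullback.of_map (Over.forget S) (f := r) (g := g) (h := h) (i := t)
      (Over.OverMorphism.ext sq₀.w) sq₀).map (yon S)
  -- the base change of `X`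
  let P : Sp S := pullback f ((yon S).map t)
  let π₁ : P ⟶ X.obj := pullback.fst f ((yon S).map t)
  let π₂ : P ⟶ (yon S).obj T := pullback.snd f ((yon S).map t)
  let aT : (yon S).obj UT ⟶ P := pullback.lift ((yon S).map r ≫ a) ((yon S).map g)
    (by rw [Category.assoc, ← hh]; exact sqU.w)
  have sqa : IsPullback ((yon S).map r) aT a π₁ :=
    IsPullback.of_bot (by rw [pullback.lift_snd, ← hh]; exact sqU) (pullback.lift_fst _ _ _).symm
      (IsPullback.of_hasPullback f _)
  have haT : RepWith @Etale aT := repWith_of_isPullback sqa ha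
  have haTs : RepWith @Surjective aT := repWith_of_isPullback sqa has
  let e : Γ(Spec (CommRingCat.of B[X]), ⊤) :=
    (Scheme.ΓSpecIso (CommRingCat.of B[X])).inv (Polynomial.C s₀ * Polynomial.X - 1)
  let C₀ : Set ↥UT.left := PrimeSpectrum.zeroLocus {Polynomial.C s₀ * Polynomial.X - 1}
  have hC₀ : C₀ = (((Spec (CommRingCat.of B[X])).basicOpen e : (Spec (CommRingCat.of B[X])).Opens) : Set ↥(Spec (CommRingCat.of B[X])))ᶜ := by
    rw [basicOpen_eq_of_affine', PrimeSpectrum.basicOpen_eq_zeroLocus_compl, compl_compl]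
    simp only [e, Iso.inv_hom_id_apply]
    rfl
  have hC₀cl : IsClosed C₀ := PrimeSpectrum.isClosed_zeroLocus _
  -- `C₀` is saturated
  have hsat : Points.ofPt aT ⁻¹' (Points.ofPt aT '' C₀) = C₀ := by
    refine subset_antisymm ?_ (Set.subset_preimage_image _ _)
    rintro x ⟨y, hy, hxy⟩
    obtain ⟨Z, p, q, sqZ⟩ := exists_isPullback_yon aT aT haT.rep
    obtain ⟨z, rfl, rfl⟩ := (ofPt_eq_ofPt_iff sqZ y x).1 hxy
    obtain ⟨W, w₁, w₂, sqW⟩ := exists_isPullback_yon a a ha.rep
    have hra : (yon S).map r ≫ a = aT ≫ π₁ := (pullback.lift_fst _ _ _).symm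
    have hgP : (yon S).map g = aT ≫ π₂ := (pullback.lift_snd _ _ _).symm
    have hw : (yon S).map (p ≫ r) ≫ a = (yon S).map (q ≫ r) ≫ a := by
      rw [Functor.map_comp, Functor.map_comp, Category.assoc, Category.assoc, hra, reassoc_of% sqZ.w]
    have hg : p ≫ g = q ≫ g := (yon S).map_injective (by
      rw [Functor.map_comp, Functor.map_comp, hgP, reassoc_of% sqZ.w])
    let l : Z ⟶ W := (yon S).preimage (sqW.lift _ _ hw)
    have hl₁ : l ≫ w₁ = p ≫ r := (yon S).map_injective (by
      rw [Functor.map_comp, Functor.map_preimage, IsPullback.lift_fst])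
    have hl₂ : l ≫ w₂ = q ≫ r := (yon S).map_injective (by
      rw [Functor.map_comp, Functor.map_preimage, IsPullback.lift_snd])
    let EW : EtOver X.obj := EtOver.mk ((yon S).map w₁ ≫ a)
      (repWith_comp (repWith_of_isPullback sqW.flip ha) ha)
    let k₁ : EW ⟶ E₀ := EtOver.homMk w₁ rfl
    let k₂ : EW ⟶ E₀ := EtOver.homMk w₂ sqW.w.symm
    have hs : w₁.left.appTop.hom (at' s E₀) = w₂.left.appTop.hom (at' s E₀) :=
      (at'_compat s k₁).trans (at'_compat s k₂).symm
    have hpr : (p ≫ r).left.appTop.hom (at' s E₀) = (q ≫ r).left.appTop.hom (at' s E₀) := by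
      rw [← hl₁, ← hl₂, Over.comp_left, Over.comp_left, Scheme.Hom.comp_appTop, Scheme.Hom.comp_appTop]
      exact congrArg l.left.appTop.hom hs
    let ρ : (Z ⟶ UT) → (B[X] →+* Γ(Z.left, ⊤)) := fun u =>
      ((Scheme.ΓSpecIso (CommRingCat.of B[X])).inv ≫ u.left.appTop).hom
    have hρC : ∀ (u : Z ⟶ UT) (b : B), ρ u (Polynomial.C b) =
        (u ≫ r).left.appTop.hom ((Scheme.ΓSpecIso B).inv b) := fun u b => by
      have h2 := Scheme.ΓSpecIso_inv_naturality cB
      have h3 := congrArg (fun m : B ⟶ Γ(Spec (CommRingCat.of B[X]), ⊤) => m.hom b) h2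
      exact congrArg u.left.appTop.hom h3
    have hρX : ∀ (u : Z ⟶ UT), ρ u Polynomial.X =
        (u ≫ g).left.appTop.hom ((Scheme.ΓSpecIso (CommRingCat.of A[X])).inv Polynomial.X) := fun u => by
      have h2 := Scheme.ΓSpecIso_inv_naturality mA
      have h3 := congrArg (fun m : CommRingCat.of A[X] ⟶ Γ(Spec (CommRingCat.of B[X]), ⊤) =>
        m.hom Polynomial.X) h2
      refine Eq.trans ?_ (congrArg u.left.appTop.hom h3)
      exact congrArg (fun x => u.left.appTop.hom ((Scheme.ΓSpecIso (CommRingCat.of B[X])).inv x))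
        (Polynomial.map_X φ.hom).symm
    have hs₀ : (Scheme.ΓSpecIso B).inv s₀ = at' s E₀ := Iso.hom_inv_id_apply _ _
    have hρ : ρ p (Polynomial.C s₀ * Polynomial.X - 1) = ρ q (Polynomial.C s₀ * Polynomial.X - 1) := by
      rw [map_sub, map_mul, map_one, map_sub, map_mul, map_one, hρC, hρC, hρX, hρX, hs₀, hpr, hg]
    have hb : p.left ⁻¹ᵁ (Spec (CommRingCat.of B[X])).basicOpen e =
        q.left ⁻¹ᵁ (Spec (CommRingCat.of B[X])).basicOpen e := by
      exact (Scheme.preimage_basicOpen_top p.left e).trans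
        ((congrArg Z.left.basicOpen hρ).trans (Scheme.preimage_basicOpen_top q.left e).symm)
    rw [hC₀] at hy ⊢
    intro hq
    have hz : z ∈ q.left ⁻¹ᵁ (Spec (CommRingCat.of B[X])).basicOpen e := hq
    rw [← hb] at hz
    exact hy hz
  have hcl : IsClosed (Points.ofPt aT '' C₀) := by
    rw [← (isQuotientMap_ofPt haT haTs).isClosed_preimage, hsat]
    exact hC₀cl
  have himg : IsClosed (Points.map π₂ '' (Points.ofPt aT '' C₀)) :=
    huc (IsAlgSpace.yon_obj T) ((yon S).map t) π₁ π₂ (IsPullback.of_hasPullback f _) _ hcl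
  have himg' : IsClosed (g.left '' C₀) := by
    rw [Set.image_image] at himg
    have e1 : (fun u => Points.map π₂ (Points.ofPt aT u)) = fun u => Points.ofScheme T (g.left u) :=
      funext fun u => by
        rw [Points.map_ofPt, show aT ≫ π₂ = (yon S).map g from pullback.lift_snd _ _ _]
        exact ((Points.ofScheme_toScheme T _).symm.trans (congrArg _ (Points.toScheme_ofPt g u)))
    rw [e1] at himg
    have e2 : (fun u => Points.ofScheme T (g.left u)) '' C₀ = Points.schemeHomeo T '' (g.left '' C₀) := by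
      rw [Set.image_image]; rfl
    rw [e2] at himg
    exact (Points.schemeHomeo T).isClosed_image.1 himg
  obtain ⟨p, hp, hp0⟩ := exists_monic_eval₂_eq_zero φ.hom s₀ himg'
  refine ⟨p, hp, fun E => ?_⟩
  have hh₀ : eval₂ h.left.appTop.hom (at' s E₀) p = 0 := by
    have hinj : Function.Injective (Scheme.ΓSpecIso B).hom :=
      (ConcreteCategory.bijective_of_isIso (Scheme.ΓSpecIso B).hom).1
    apply hinj
    have hcomp : h.left.appTop ≫ (Scheme.ΓSpecIso B).hom = φ := by
      have hinv : V.left.isoSpec.inv.appTop = (Scheme.ΓSpecIso Γ(V.left, ⊤)).inv := by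
        have h2 : (Scheme.ΓSpecIso Γ(V.left, ⊤)).hom ≫ V.left.isoSpec.inv.appTop = 𝟙 _ := by
          rw [← Scheme.toSpecΓ_appTop, ← Scheme.Hom.comp_appTop, Scheme.isoSpec_inv_toSpecΓ, Scheme.Hom.id_appTop]
        rw [← cancel_epi (Scheme.ΓSpecIso Γ(V.left, ⊤)).hom, h2, Iso.hom_inv_id]
      rw [hφ, Scheme.Hom.comp_appTop, Category.assoc, Scheme.ΓSpecIso_naturality, hinv,
        Iso.inv_hom_id_assoc]
    rw [map_zero]
    change (Scheme.ΓSpecIso B).hom.hom _ = 0
    rw [hom_eval₂, show (Scheme.ΓSpecIso B).hom.hom.comp h.left.appTop.hom = φ.hom from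
      congrArg CommRingCat.Hom.hom hcomp]
    exact hp0
  -- compare on the fibre product
  obtain ⟨W, w₁, w₂, sqW⟩ := exists_isPullback_yon a E.obj.hom ha.rep
  haveI : Etale w₂.left := etale_left (repWith_of_isPullback sqW ha)
  haveI : Surjective w₂.left := surjective_left (repWith_of_isPullback sqW has)
  let hE : E.obj.left ⟶ V := (yon S).preimage (E.obj.hom ≫ f)
  have hWV : w₂ ≫ hE = w₁ ≫ h := (yon S).map_injective (by
    rw [Functor.map_comp, Functor.map_comp, Functor.map_preimage, Functor.map_preimage, reassoc_of% sqW.w])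
  let EW : EtOver X.obj := EtOver.mk ((yon S).map w₂ ≫ E.obj.hom)
    (repWith_comp (repWith_of_isPullback sqW ha) E.property)
  let k₁ : EW ⟶ E₀ := EtOver.homMk w₁ sqW.w
  let k₂ : EW ⟶ E := EtOver.homMk w₂ rfl
  apply appTop_injective_of_flat_surjective w₂.left
  rw [map_zero]
  have hs : w₂.left.appTop.hom (at' s E) = w₁.left.appTop.hom (at' s E₀) :=
    (at'_compat s k₂).trans (at'_compat s k₁).symm
  have hc : w₂.left.appTop.hom.comp hE.left.appTop.hom = w₁.left.appTop.hom.comp h.left.appTop.hom := by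
    rw [← CommRingCat.hom_comp, ← CommRingCat.hom_comp, ← Scheme.Hom.comp_appTop, ← Scheme.Hom.comp_appTop,
      ← Over.comp_left, ← Over.comp_left, hWV]
  rw [hom_eval₂, hc, hs, ← hom_eval₂, hh₀, map_zero]

end Groth.Agent.AlgSpIntSectLib
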